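import Cfsg.Agent.H468.K6.FiSeven
import Cfsg.Agent.H48.OreFi.BigPrime
import Cfsg.Agent.H418.Frob

/-!
# `Fi24'`: the centralizer of an element of class 7B has order 2058 (helper713)

* `x_c`, `sgn_x` : an odd element commuting with `c`.
* `conj_yy`, `conj_cc` : the classes of `yy`, `cc` in `Fi24'`.
* `cl_all` : the elements of order 7.
* `ex` : the exponent of `P`.
-/

set_option autoImplicit false
set_option maxRecDepth 100000
set_option Elab.async false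

namespace Cfsg.Agent.H713.HT.FiCent

open Cfsg Cfsg.Agent Subgroup Equiv
open Cfsg.Agent.Fischer.Fi24RepDef Cfsg.Agent.Fischer.Fi24Rep
open Cfsg.Agent.Fischer.Fi24Spider (word_append word_cons word_nil)
open Cfsg.Agent.LThreeFi24.FiveConj (eqB eq_of_eqB)
open Cfsg.Agent.R08.FiTwentyFour (L mem_commutator_iff)
open Cfsg.Agent.Fischer.Fi24Final (sgn sgn_gen)
open Cfsg.Agent.H842.Seven Cfsg.Agent.H842.SevenSyl Cfsg.Agent.H842.SevenK
open Cfsg.Agent.H468.K6.Fi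
open Cfsg.Spor (Fi24 Fi24')
open Cfsg.Spor.Fi24 (Gen)

/-! ### Odd elements -/

def xw : List Gen := Cfsg.Agent.H842.SevenK.g0 ++ ([.a, .k] ++ (LThreeFi24.SNineK.uw ++ Gen.c :: LThreeFi24.SNineK.uw.reverse))

theorem chk_x : eqB (xw ++ cw) (cw ++ xw) = true := by decide +kernel

theorem x_c : word xw * c = c * word xw := by
  have h := eq_of_eqB chk_x
  rw [word_append, word_append] at h
  exact h

theorem sgn_word (w : List Gen) : sgn (word w) = (-1) ^ w.length := by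
  induction w with
  | nil => rw [word_nil, map_one]; rfl
  | cons x w ih => rw [word_cons, map_mul, sgn_gen, ih, List.length_cons, pow_succ, mul_comm]

theorem sgn_x : sgn (word xw) = -1 := by
  rw [sgn_word]
  exact Odd.neg_one_pow (by decide)

theorem sgn_l : sgn (gen .l) = -1 := sgn_gen .l

theorem l_y7 : gen .l * y7 = y7 * gen .l := (y7_t 0).symm

/-- conjugacy in `Fi24'` of an element commuting with an odd element -/
theorem conj_of {a : Fi24'} {s : Fi24} (hs : s * (a : Fi24) = (a : Fi24) * s) (hsg : sgn s = -1) {v : Fi24'} {g : Fi24}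
    (h : g * (a : Fi24) * g⁻¹ = (v : Fi24)) : IsConj a v := by
  rcases Int.units_eq_one_or (sgn g) with h1 | h1
  · exact isConj_iff.2 ⟨⟨g, mem_commutator_iff.2 h1⟩, Subtype.ext h⟩
  · refine isConj_iff.2 ⟨⟨g * s, mem_commutator_iff.2 (by rw [map_mul, h1, hsg]; rfl)⟩, Subtype.ext ?_⟩
    show g * s * (a : Fi24) * (g * s)⁻¹ = (v : Fi24)
    rw [← h]
    calc g * s * (a : Fi24) * (g * s)⁻¹ = g * (s * (a : Fi24)) * s⁻¹ * g⁻¹ := by group
      _ = g * ((a : Fi24) * s) * s⁻¹ * g⁻¹ := by rw [hs]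
      _ = g * (a : Fi24) * g⁻¹ := by group

theorem conj_yy {v : Fi24'} {g : Fi24} (h : g * y7 * g⁻¹ = (v : Fi24)) : IsConj yy v :=
  conj_of (a := yy) l_y7 sgn_l h

theorem conj_cc {v : Fi24'} {g : Fi24} (h : g * c * g⁻¹ = (v : Fi24)) : IsConj cc v :=
  conj_of (a := cc) x_c sgn_x h

/-! ### Powers -/

theorem pow_of_three {G : Type*} [Group G] {a h : G} (ha : a ^ 7 = 1) (h3 : h * a * h⁻¹ = a ^ 3) {k : ℕ} (hk : ¬ 7 ∣ k) :
    ∃ g : G, g * a * g⁻¹ = a ^ k := by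
  have h1 : ∀ m : ℕ, h ^ m * a * (h ^ m)⁻¹ = a ^ 3 ^ m := by
    intro m
    induction m with
    | zero => simp
    | succ m ih =>
      have e : h ^ (m + 1) * a * (h ^ (m + 1))⁻¹ = h * (h ^ m * a * (h ^ m)⁻¹) * h⁻¹ := by
        rw [pow_succ']; group
      rw [e, ih, ← conj_pow, h3, ← pow_mul, pow_succ']
  have h2 : ∀ r : ℕ, r < 7 → r ≠ 0 → ∃ m : ℕ, 3 ^ m % 7 = r := by
    intro r hr h0
    interval_cases r
    · exact absurd rfl h0
    · exact ⟨0, rfl⟩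
    · exact ⟨2, rfl⟩
    · exact ⟨1, rfl⟩
    · exact ⟨4, rfl⟩
    · exact ⟨5, rfl⟩
    · exact ⟨3, rfl⟩
  obtain ⟨m, hm⟩ := h2 (k % 7) (Nat.mod_lt _ (by norm_num)) (fun h => hk (Nat.dvd_of_mod_eq_zero h))
  refine ⟨h ^ m, ?_⟩
  rw [h1, ← H842.Heis.Dat.pow_mod ha (3 ^ m), hm, H842.Heis.Dat.pow_mod ha]

/-- the permutation `x ↦ 3 x` -/
def mu3 : Perm (Fin 7) where
  toFun x := 3 * x
  invFun x := 5 * x
  left_inv := by decide
  right_inv := by decide

theorem mu3_sg : mu3 * sg = sg ^ 3 * mu3 := by decide +kernel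

theorem Psi_mu3 : Psi mu3 * c * (Psi mu3)⁻¹ = c ^ 3 := by
  have h : Psi mu3 * c = c ^ 3 * Psi mu3 := by
    rw [c_eq, ← map_mul, ← map_pow, ← map_mul]
    exact congrArg Psi mu3_sg
  rw [h, mul_inv_cancel_right]

theorem rat_y {k : ℕ} (hk : ¬ 7 ∣ k) : ∃ g : Fi24, g * y7 * g⁻¹ = y7 ^ k := pow_of_three (a := y7) (h := t6) y7_pow t6_y7 hk

theorem rat_c {k : ℕ} (hk : ¬ 7 ∣ k) : ∃ g : Fi24, g * c * g⁻¹ = c ^ k := pow_of_three (a := c) (h := Psi mu3) c_pow Psi_mu3 hk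

theorem hra (k : ℕ) (hk : ¬ 7 ∣ k) : IsConj yy (yy ^ k) := by
  obtain ⟨g, hg⟩ := rat_y hk
  exact conj_yy hg

theorem hrx (k : ℕ) (hk : ¬ 7 ∣ k) : IsConj cc (cc ^ k) := by
  obtain ⟨g, hg⟩ := rat_c hk
  exact conj_cc hg

/-! ### Elements of order 7 -/

theorem cl_all {v : Fi24'} (hv : orderOf v = 7) : IsConj yy v ∨ IsConj cc v := by
  have h7 : Fact (Nat.Prime 7) := ⟨by norm_num⟩
  have hv' : orderOf (v : Fi24) = 7 := by rw [Subgroup.orderOf_coe]; exact hv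
  obtain ⟨g, hg⟩ := cases7 (X := zpowers (v : Fi24)) (by rw [Nat.card_zpowers, hv'])
  have key : ∀ w : Fi24, w ^ 7 = 1 → (zpowers (v : Fi24)).map (MulAut.conj g).toMonoidHom = zpowers w →
      (∀ k : ℕ, ¬ 7 ∣ k → ∃ h : Fi24, h * w * h⁻¹ = w ^ k) → ∃ h : Fi24, h * w * h⁻¹ = (v : Fi24) := by
    intro w hw h1 h2
    have h3 : g * v * g⁻¹ ∈ zpowers w := by
      rw [← h1]
      exact ⟨v, mem_zpowers _, rfl⟩
    have hfin : Finite Fi24 := Cfsg.Agent.R08.FiTwentyFour.finite_Fi24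
    obtain ⟨k, hk⟩ := mem_powers_iff_mem_zpowers.2 h3
    have hk' : w ^ k = g * v * g⁻¹ := hk
    have h4 : ¬ 7 ∣ k := by
      rintro ⟨m, rfl⟩
      rw [pow_mul, hw, one_pow] at hk'
      have h5 : (v : Fi24) = 1 := by
        have : g⁻¹ * (g * v * g⁻¹) * g = v := by group
        rw [← this, ← hk']; group
      rw [h5, orderOf_one] at hv'
      omega
    obtain ⟨h, hh⟩ := h2 k h4
    refine ⟨g⁻¹ * h, ?_⟩
    calc g⁻¹ * h * w * (g⁻¹ * h)⁻¹ = g⁻¹ * (h * w * h⁻¹) * g := by group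
      _ = g⁻¹ * (g * v * g⁻¹) * g := by rw [hh, hk']
      _ = v := by group
  rcases hg with hg | hg
  · obtain ⟨h, hh⟩ := key y7 y7_pow hg (fun k hk => rat_y hk)
    exact Or.inl (conj_yy hh)
  · obtain ⟨h, hh⟩ := key c c_pow hg (fun k hk => rat_c hk)
    exact Or.inr (conj_cc hh)

theorem hax : ¬ IsConj yy cc := by
  intro h
  obtain ⟨g, hg⟩ := isConj_iff.1 h.symm
  refine not_conj_y7 (g := (g : Fi24)) ?_
  have h1 : (g : Fi24) * c * (g : Fi24)⁻¹ = y7 := congrArg Subtype.val hg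
  rw [h1]
  exact mem_zpowers y7

/-! ### The exponent of `P` -/

theorem pow_form' {G : Type*} [Group G] {p : ℕ} {y c u : G} (h : H842.Heis.Dat p y c u) (k i j m : ℕ) :
    (u ^ k * y ^ i * c ^ j) ^ m = u ^ (k * m) * y ^ (i * m) * c ^ ((p - 1) * (k * i) * m.choose 2 + j * m) := by
  induction m with
  | zero => simp
  | succ m ih =>
    rw [pow_succ, ih, h.mul_form]
    have e : (p - 1) * (k * (i * m)) + ((p - 1) * (k * i) * m.choose 2 + j * m) + j =
        (p - 1) * (k * i) * (m + 1).choose 2 + j * (m + 1) := by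
      rw [Nat.choose_succ_succ', Nat.choose_one_right]
      ring
    rw [e, show k * m + k = k * (m + 1) by ring, show i * m + i = i * (m + 1) by ring]

theorem ex (r : Fi24') (hr : r ∈ datF.P) : r ^ 7 = 1 := by
  obtain ⟨k, i, j, rfl⟩ := hr
  rw [pow_form' datF, show (7 : ℕ).choose 2 = 7 * 3 by decide, mul_comm k 7, mul_comm i 7, pow_mul, pow_mul, datF.up, datF.yp,
    show (7 - 1) * (k * i) * (7 * 3) + j * 7 = 7 * ((7 - 1) * (k * i) * 3 + j) by ring, pow_mul, datF.cp]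
  simp

end Cfsg.Agent.H713.HT.FiCent
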