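import Cfsg.Agent.H713.HT.FiCent

/-!
# `Fi24'`: `|C(7B)| = 2058` (helper713)

`|C(c)| ≤ 306936` (helper48), `2058 ∣ |C(c)|` and Frobenius' theorem for the elements of order dividing `7 ^ 3`.
-/

set_option autoImplicit false
set_option maxRecDepth 100000
set_option Elab.async false

namespace Cfsg.Agent.H713.HT.FiCx

open Cfsg Cfsg.Agent Subgroup Equiv
open Cfsg.Agent.Fischer.Fi24RepDef Cfsg.Agent.Fischer.Fi24Rep
open Cfsg.Agent.R08.FiTwentyFour (L mem_commutator_iff sgn_L)
open Cfsg.Agent.Fischer.Fi24Final (sgn sgn_gen)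
open Cfsg.Agent.H842.Seven Cfsg.Agent.H842.SevenSyl
open Cfsg.Agent.H468.K6.Fi
open Cfsg.Agent.H713.HT.FiCent
open Cfsg.Spor (Fi24 Fi24')
open Cfsg.Spor.Fi24 (Gen)

instance finF : Finite Fi24' := finite_fi

/-! ### The element of order 6 -/

theorem sgn_t6 : sgn t6 = 1 := by
  have h : sgn (Cfsg.Agent.LThreeFi24.SNine.s 7) = -1 := sgn_L (t_mem 5)
  show sgn (word tw * Cfsg.Agent.LThreeFi24.SNine.s 7) = 1
  rw [map_mul, sgn_word, h]
  rfl

theorem t6_ne {m : ℕ} (hm : ¬ 7 ∣ 3 ^ m - 1) (h : t6 ^ m = 1) : False := by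
  have h1 : ∀ m : ℕ, t6 ^ m * y7 * (t6 ^ m)⁻¹ = y7 ^ 3 ^ m := by
    intro m
    induction m with
    | zero => simp
    | succ m ih =>
      have e : t6 ^ (m + 1) * y7 * (t6 ^ (m + 1))⁻¹ = t6 * (t6 ^ m * y7 * (t6 ^ m)⁻¹) * t6⁻¹ := by
        rw [pow_succ']; group
      rw [e, ih, ← conj_pow, t6_y7, ← pow_mul, pow_succ']
  have h2 := h1 m
  rw [h] at h2
  have h3 : y7 ^ (3 ^ m - 1) = 1 := by
    have h4 : y7 ^ (3 ^ m - 1) * y7 = 1 * y7 := by
      rw [← pow_succ, Nat.sub_add_cancel (Nat.one_le_pow _ _ (by norm_num)), ← h2]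
      group
    exact mul_right_cancel h4
  have h4 := orderOf_dvd_of_pow_eq_one h3
  rw [y7_order] at h4
  exact hm h4

theorem order_t6 : orderOf t6 = 6 := by
  refine orderOf_eq_of_pow_and_pow_div_prime (by norm_num) t6_pow ?_
  intro p hp h6 h
  have h1 : p ≤ 6 := Nat.le_of_dvd (by norm_num) h6
  interval_cases p
  · exact absurd hp (by norm_num)
  · exact absurd hp (by norm_num)
  · exact t6_ne (m := 3) (by norm_num) h
  · exact t6_ne (m := 2) (by norm_num) h
  · exact absurd h6 (by norm_num)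
  · exact absurd h6 (by norm_num)
  · exact absurd hp (by norm_num)

noncomputable def tt : Fi24' := ⟨t6, mem_commutator_iff.2 sgn_t6⟩

theorem tt_order : orderOf tt = 6 := by rw [← Subgroup.orderOf_coe]; exact order_t6

theorem tt_cc : tt * cc = cc * tt := by
  apply Subtype.ext
  show t6 * c = c * t6
  rw [c_eq]
  exact (t6_Psi _).eq

theorem dvd6 : 6 ∣ Nat.card ↥(centralizer ({cc} : Set Fi24')) := by
  have h : orderOf (⟨tt, mem_centralizer_singleton_iff.2 tt_cc⟩ : ↥(centralizer ({cc} : Set Fi24'))) = 6 := by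
    rw [Subgroup.orderOf_mk, tt_order]
  rw [← h]
  exact orderOf_dvd_natCard _

theorem dvd2058 : 2058 ∣ Nat.card ↥(centralizer ({cc} : Set Fi24')) := by
  have h := Nat.Coprime.mul_dvd_of_dvd_of_dvd (by norm_num : Nat.Coprime (7 ^ 3) 6) dvd_cc dvd6
  exact (by norm_num : 2058 = 7 ^ 3 * 6) ▸ h

theorem le_cc : Nat.card ↥(centralizer ({cc} : Set Fi24')) ≤ 306936 := by
  have hfin : Finite Fi24 := Cfsg.Agent.R08.FiTwentyFour.finite_Fi24
  refine le_trans ?_ Cfsg.Agent.H48.OreFi.card_c
  refine Nat.card_le_card_of_injective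
    (fun g : ↥(centralizer ({cc} : Set Fi24')) => (⟨((g : Fi24') : Fi24), by
      rw [mem_centralizer_singleton_iff]
      exact congrArg Subtype.val (mem_centralizer_singleton_iff.1 g.2)⟩ : ↥(centralizer ({c} : Set Fi24)))) ?_
  intro a b h
  have h1 : ((a : Fi24') : Fi24) = ((b : Fi24') : Fi24) :=
    congrArg (fun z : ↥(centralizer ({c} : Set Fi24)) => (z : Fi24)) h
  exact Subtype.ext (Subtype.ext h1)

/-! ### Sylow -/

theorem card_F : Nat.card Fi24' = 1255205709190661721292800 := Cfsg.Agent.R08.FiTwentyFour.card_commutator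

theorem fact_F : (Nat.card Fi24').factorization 7 = 3 := by
  rw [card_F, show (1255205709190661721292800 : ℕ) = 7 ^ 3 * 3659491863529626009600 by norm_num,
    Nat.factorization_mul (by norm_num) (by norm_num), Finsupp.add_apply,
    Nat.Prime.factorization_pow (by norm_num), Finsupp.single_eq_same,
    Nat.factorization_eq_zero_of_not_dvd (by norm_num)]

instance fact7 : Fact (Nat.Prime 7) := ⟨by norm_num⟩

noncomputable def syl : Sylow 7 Fi24' := Sylow.ofCard datF.P (by rw [datF.card_P, fact_F])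

theorem coe_syl : (syl : Subgroup Fi24') = datF.P := rfl

/-- the elements of order a power of 7 -/
theorem pow7 {g : Fi24'} (hg : g ^ 343 = 1) : g ^ 7 = 1 := by
  have hp : IsPGroup 7 ↥(zpowers g) := by
    have h1 : orderOf g ∣ 7 ^ 3 := orderOf_dvd_of_pow_eq_one (by norm_num; exact hg)
    obtain ⟨k, -, hk⟩ := (Nat.dvd_prime_pow (by norm_num)).1 h1
    exact IsPGroup.of_card (n := k) (by rw [Nat.card_zpowers, hk])
  obtain ⟨Q, hQ⟩ := hp.exists_le_sylow
  obtain ⟨x, hx⟩ := MulAction.exists_smul_eq Fi24' Q syl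
  have h1 : x * g * x⁻¹ ∈ datF.P := by
    rw [← coe_syl, ← hx, Sylow.coe_subgroup_smul]
    exact ⟨g, hQ (mem_zpowers g), rfl⟩
  have h2 := ex _ h1
  rw [conj_pow] at h2
  have : g ^ 7 = x⁻¹ * (x * g ^ 7 * x⁻¹) * x := by group
  rw [this, h2]; group

/-! ### The count -/

def A : Set Fi24' := {v | IsConj yy v}
def D : Set Fi24' := {v | IsConj cc v}

theorem cardA : A.ncard * Nat.card ↥(centralizer ({yy} : Set Fi24')) = 1255205709190661721292800 := by
  rw [← card_F]
  exact card_class fun y => isConj_iff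

theorem cardD : D.ncard * Nat.card ↥(centralizer ({cc} : Set Fi24')) = 1255205709190661721292800 := by
  rw [← card_F]
  exact card_class fun y => isConj_iff

theorem ord_of {a v : Fi24'} (ha : orderOf a = 7) (h : IsConj a v) : orderOf v = 7 := by
  obtain ⟨g, rfl⟩ := isConj_iff.1 h
  rw [← ha]; exact MulEquiv.orderOf_eq (MulAut.conj g) a

theorem frob : 343 ∣ 1 + (A.ncard + D.ncard) := by
  have h1 := Cfsg.Agent.H418.Frob.frobenius_dvd (G := Fi24') 343 (by rw [card_F]; norm_num)
  have e : {g : Fi24' | g ^ 343 = 1} = {1} ∪ (A ∪ D) := by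
    ext g
    constructor
    · intro hg
      have hg' : g ^ 343 = 1 := hg
      by_cases h1 : g = 1
      · exact Or.inl h1
      · exact Or.inr (cl_all (orderOf_eq_prime (pow7 hg') h1))
    · have key : orderOf g = 7 → g ^ 343 = 1 := by
        intro h
        rw [show (343 : ℕ) = 7 * 49 by norm_num, pow_mul, ← h, pow_orderOf_eq_one, one_pow]
      rintro (h | h | h)
      · have h' : g = 1 := h
        show g ^ 343 = 1
        rw [h', one_pow]
      · exact key (ord_of yy_order h)
      · exact key (ord_of cc_order h)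
  have h2 : Nat.card {g : Fi24' // g ^ 343 = 1} = ({g : Fi24' | g ^ 343 = 1} : Set Fi24').ncard := rfl
  rw [h2, e, Set.ncard_union_eq, Set.ncard_union_eq, Set.ncard_singleton] at h1
  · exact h1
  · rw [Set.disjoint_left]
    intro g h3 h4
    exact hax ((show IsConj yy g from h3).trans (show IsConj cc g from h4).symm)
  · rw [Set.disjoint_left]
    rintro g h3 h4
    have h5 : g = 1 := h3
    have h6 : orderOf g = 7 := by
      rcases h4 with h4 | h4
      · exact ord_of yy_order h4
      · exact ord_of cc_order h4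
    rw [h5, orderOf_one] at h6
    omega

theorem arith : ∀ m < 150, m ≠ 0 → 1255205709190661721292800 % (2058 * m) = 0 →
    (1 + (1255205709190661721292800 / 17640 + 1255205709190661721292800 / (2058 * m))) % 343 = 0 → m = 1 := by
  decide +kernel

/-- **`|C(7B)| = 2058`**, from `|C(7A)| = 17640` -/
theorem card_cc (hy : Nat.card ↥(centralizer ({yy} : Set Fi24')) = 17640) :
    Nat.card ↥(centralizer ({cc} : Set Fi24')) = 2058 := by
  obtain ⟨m, hm⟩ := dvd2058
  have h1 := le_cc
  have hA := cardA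
  have hD := cardD
  have hf := frob
  rw [hy] at hA
  rw [hm] at h1 hD ⊢
  have hm0 : m ≠ 0 := by
    rintro rfl
    rw [mul_zero, mul_zero] at hD
    exact absurd hD (by norm_num)
  have hA' : A.ncard = 1255205709190661721292800 / 17640 :=
    (Nat.div_eq_of_eq_mul_left (by norm_num) hA.symm).symm
  have hD' : D.ncard = 1255205709190661721292800 / (2058 * m) :=
    (Nat.div_eq_of_eq_mul_left (by positivity) hD.symm).symm
  have h2 : 1255205709190661721292800 % (2058 * m) = 0 := by
    rw [← hD]; exact Nat.mul_mod_left _ _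
  rw [hA', hD'] at hf
  have h3 := arith m (by omega) hm0 h2 (Nat.mod_eq_zero_of_dvd hf)
  rw [h3]

end Cfsg.Agent.H713.HT.FiCx
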